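import Groth.Agent.L24.Lang.Points
import Groth.Agent.L25.ConnIrred
import Groth.Agent.L26.AV.SmoothField
import Groth.Agent.L25.Actions
import Mathlib.AlgebraicGeometry.Group.Affine
import Mathlib.AlgebraicGeometry.AlgClosed.Basic

/-!
Lang's theorem: torsors under connected smooth affine groups over finite fields have rational points.
-/

set_option autoImplicit false
set_option backward.isDefEq.respectTransparency false
set_option backward.isDefEq.respectTransparency.types false

universe u

open CategoryTheory Limits MonoidalCategory CartesianMonoidalCategory MonObj GrpObj AlgebraicGeometry WithConv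

noncomputable section

namespace Groth.L24.Lang

variable {k : Type u} [Field k] [Finite k]

/-- The spectrum of an extension field, over `k`. -/
abbrev fieldPt (k K : Type u) [Field k] [Field K] [Algebra k K] : Over (Spec (CommRingCat.of k)) :=
  (Spec (CommRingCat.of K)).asOver (Spec (CommRingCat.of k))

/-- The Frobenius of a point over an extension field. -/
def frob (k K : Type u) [Field k] [Finite k] [Field K] [Algebra k K] : fieldPt k K ⟶ fieldPt k K :=
  haveI := Fintype.ofFinite k
  Scheme.Hom.asOver (Spec.map (CommRingCat.ofHom (FiniteField.frobeniusAlgHom k K).toRingHom))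
    (Spec (CommRingCat.of k))

theorem exists_frob_twist (K : Type u) [Field K] [IsAlgClosed K] [Algebra k K]
    (G : Over (Spec (CommRingCat.of k))) [GrpObj G] [IsAffine G.left] [Smooth G.hom] [ConnectedSpace G.left]
    (χ : fieldPt k K ⟶ G) : ∃ h : fieldPt k K ⟶ G, χ * (frob k K ≫ h) = h := by
  classical
  letI := Fintype.ofFinite k
  haveI : IrreducibleSpace G.left := Groth.L25.ConnIrred.irreducibleSpace G
  haveI : IsReduced G.left := Groth.Agent.AV.isReduced_of_smooth_field G.hom
  haveI : IsIntegral G.left := isIntegral_of_irreducibleSpace_of_isReduced G.left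
  obtain ⟨A, ⟨e⟩⟩ := (essImage_hopfSpec (G := ({ X := G } : Grp _))).2 ‹IsAffine G.left›
  let M : Over (Spec (CommRingCat.of k)) := (Spec (CommRingCat.of A.unop)).asOver (Spec (CommRingCat.of k))
  let E : M ⟶ G := e.hom.hom.hom
  let E' : G ⟶ M := e.inv.hom.hom
  haveI : IsMonHom E := e.hom.hom.isMonHom_hom
  haveI : IsMonHom E' := e.inv.hom.isMonHom_hom
  have hEE : E ≫ E' = 𝟙 M := congrArg (fun F => F.hom.hom) e.hom_inv_id
  have hEE' : E' ≫ E = 𝟙 G := congrArg (fun F => F.hom.hom) e.inv_hom_id
  haveI : IsIso E := ⟨E', hEE, hEE'⟩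
  haveI : IsIso E.left := inferInstanceAs (IsIso ((Over.forget _).map E))
  haveI : Nonempty ↥(Spec (CommRingCat.of A.unop)) := ⟨E'.left (Classical.arbitrary G.left)⟩
  haveI : IsIntegral (Spec (CommRingCat.of A.unop)) :=
    isIntegral_of_isOpenImmersion (E.left : Spec (CommRingCat.of A.unop) ⟶ G.left)
  haveI hdom : IsDomain A.unop := (affine_isIntegral_iff (CommRingCat.of A.unop)).1 inferInstance
  haveI : Algebra.FiniteType k A.unop := by
    have h : LocallyOfFiniteType (Spec.map (CommRingCat.ofHom (algebraMap k A.unop))) := by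
      have hw : (E.left : Spec (CommRingCat.of A.unop) ⟶ G.left) ≫ G.hom =
          Spec.map (CommRingCat.ofHom (algebraMap k A.unop)) := Over.w E
      rw [← hw]
      infer_instance
    rw [HasRingHomProperty.Spec_iff (P := @LocallyOfFiniteType)] at h
    simpa [RingHom.finiteType_algebraMap] using h
  let m : WithConv (A.unop →ₐ[k] K) ≃* (fieldPt k K ⟶ M) := Spec.mapMulEquiv (R := k) (S := A.unop) (T := K)
  obtain ⟨h, hh⟩ := exists_lang_point (K := K) (m.symm (χ ≫ E'))
  let h' : WithConv (A.unop →ₐ[k] K) := toConv ((FiniteField.frobeniusAlgHom k K).comp h.ofConv)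
  have h1 : frob k K ≫ m h = m h' := Over.OverMorphism.ext (by
    show Spec.map _ ≫ Spec.map _ = Spec.map _
    rw [← Spec.map_comp]
    rfl)
  refine ⟨m h ≫ E, ?_⟩
  have h2 := congrArg m (hh h' fun a => by rw [Nat.card_eq_fintype_card]; rfl)
  rw [map_mul, MulEquiv.apply_symm_apply] at h2
  rw [← Category.assoc, h1]
  conv_rhs => rw [← h2, MonObj.mul_comp, Category.assoc, hEE', Category.comp_id]

theorem exists_geomPoint (K : Type u) [Field K] [IsAlgClosed K] [Algebra k K]
    (X : Over (Spec (CommRingCat.of k))) [LocallyOfFiniteType X.hom] [Nonempty ↥X.left] :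
    Nonempty (fieldPt k K ⟶ X) := by
  let t := Spec.map (CommRingCat.ofHom (algebraMap k K))
  let XK := pullback X.hom t
  haveI : Surjective t := ⟨fun c => ⟨IsLocalRing.closedPoint K, Subsingleton.elim (α := PrimeSpectrum k) _ _⟩⟩
  haveI : Surjective (pullback.fst X.hom t) := inferInstance
  obtain ⟨z, -⟩ := (pullback.fst X.hom t).surjective (Classical.arbitrary X.left)
  haveI : JacobsonSpace ↥XK := LocallyOfFiniteType.jacobsonSpace (pullback.snd X.hom t)
  obtain ⟨x, -, hx⟩ := nonempty_inter_closedPoints (Set.univ_nonempty (α := ↥XK)) isOpen_univ.isLocallyClosed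
  exact ⟨Over.homMk (pointOfClosedPoint (pullback.snd X.hom t) x hx ≫ pullback.fst X.hom t) (by
    show _ = t
    rw [Category.assoc, pullback.condition, pointOfClosedPoint_comp_assoc])⟩

/-- A point fixed by Frobenius is rational. -/
theorem exists_rational_of_frob_fixed (K : Type u) [Field K] [Algebra k K]
    (X : Over (Spec (CommRingCat.of k))) (p : fieldPt k K ⟶ X) (hp : frob k K ≫ p = p) :
    Nonempty (𝟙_ (Over (Spec (CommRingCat.of k))) ⟶ X) := by
  classical
  letI := Fintype.ofFinite k
  let φ : CommRingCat.of K ⟶ CommRingCat.of K :=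
    CommRingCat.ofHom (FiniteField.frobeniusAlgHom k K).toRingHom
  let p' : Spec (CommRingCat.of K) ⟶ X.left := p.left
  let x := p' (IsLocalRing.closedPoint K)
  let i : X.left.residueField x ⟶ CommRingCat.of K :=
    Scheme.descResidueField (Scheme.stalkClosedPointTo p')
  have hi : Spec.map i ≫ X.left.fromSpecResidueField x = p' :=
    Scheme.descResidueField_stalkClosedPointTo_fromSpecResidueField K X.left p'
  have hp' : Spec.map φ ≫ p' = p' := congrArg (fun T => CommaMorphism.left T) hp
  have hiφ : i ≫ φ = i := Spec.map_injective (by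
    rw [← cancel_mono (X.left.fromSpecResidueField x), Spec.map_comp, Category.assoc, hi, hp'])
  have hrange : ∀ y : K, y ^ Fintype.card k = y → ∃ c : k, algebraMap k K c = y := by
    intro y hy
    by_contra hc
    push Not at hc
    let s : Finset K := Finset.univ.image (algebraMap k K)
    have hs : ∀ z ∈ insert y s, (Polynomial.X ^ Fintype.card k - Polynomial.X : Polynomial K).IsRoot z := by
      intro z hz
      rcases Finset.mem_insert.1 hz with rfl | hz
      · simp [hy]
      · obtain ⟨c, -, rfl⟩ := Finset.mem_image.1 hz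
        simp [← map_pow, FiniteField.pow_card]
    have hne := FiniteField.X_pow_card_sub_X_ne_zero K (p := Fintype.card k) Fintype.one_lt_card
    have h1 : (insert y s).card ≤ (Polynomial.X ^ Fintype.card k - Polynomial.X : Polynomial K).natDegree :=
      Polynomial.card_le_degree_of_subset_roots fun z hz => (Polynomial.mem_roots hne).2 (hs z hz)
    rw [FiniteField.X_pow_card_sub_X_natDegree_eq K Fintype.one_lt_card,
      Finset.card_insert_of_notMem (fun h => by obtain ⟨c, -, e⟩ := Finset.mem_image.1 h; exact hc c e),
      Finset.card_image_of_injective _ (algebraMap k K).injective, Finset.card_univ] at h1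
    omega
  choose j hj using fun y : X.left.residueField x =>
    hrange (i.hom y) (congrArg (fun T : X.left.residueField x ⟶ CommRingCat.of K => T.hom y) hiφ)
  let jr : X.left.residueField x →+* k :=
    { toFun := j
      map_one' := (algebraMap k K).injective (by rw [hj, map_one, map_one])
      map_mul' := fun a b => (algebraMap k K).injective (by rw [hj, map_mul, map_mul, hj, hj])
      map_zero' := (algebraMap k K).injective (by rw [hj, map_zero, map_zero])
      map_add' := fun a b => (algebraMap k K).injective (by rw [hj, map_add, map_add, hj, hj]) }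
  let al : CommRingCat.of k ⟶ CommRingCat.of K := CommRingCat.ofHom (algebraMap k K)
  have hji : CommRingCat.ofHom jr ≫ al = i := CommRingCat.hom_ext (RingHom.ext hj)
  let r : Spec (CommRingCat.of k) ⟶ X.left := Spec.map (CommRingCat.ofHom jr) ≫ X.left.fromSpecResidueField x
  have hr : r ≫ X.hom = 𝟙 _ := by
    have h1 : Spec.map al ≫ r ≫ X.hom = Spec.map al := by
      rw [← Category.assoc]
      rw [show Spec.map al ≫ r = p' from by rw [← hi, ← hji, Spec.map_comp, Category.assoc]]
      exact Over.w p
    obtain ⟨q, hq⟩ := Spec.map_surjective (r ≫ X.hom)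
    rw [← hq, ← Spec.map_id]
    rw [← hq, ← Spec.map_comp] at h1
    refine congrArg Spec.map (CommRingCat.hom_ext (RingHom.ext fun c => (algebraMap k K).injective ?_))
    exact congrArg (fun T : CommRingCat.of k ⟶ CommRingCat.of K => T.hom c) (Spec.map_injective h1)
  exact ⟨Over.homMk r hr⟩

theorem exists_rational_point_of_geomPoint (G : Over (Spec (CommRingCat.of k))) [GrpObj G] [IsAffine G.left]
    [Smooth G.hom] [ConnectedSpace G.left] (X : Over (Spec (CommRingCat.of k)))
    (a : AlgGrp.Action G X) (hX : IsIso (lift a.act (snd G X))) {K : Type u} [Field K] [IsAlgClosed K]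
    [Algebra k K] (x : fieldPt k K ⟶ X) :
    Nonempty (𝟙_ (Over (Spec (CommRingCat.of k))) ⟶ X) := by
  let σ := frob k K
  let p := lift (σ ≫ x) x ≫ inv (lift a.act (snd G X))
  let g := p ≫ fst G X
  have hp : p ≫ lift a.act (snd G X) = lift (σ ≫ x) x := by
    rw [Category.assoc, IsIso.inv_hom_id, Category.comp_id]
  have hp2 : p ≫ snd G X = x := by
    have := congrArg (fun t => t ≫ snd X X) hp
    simpa using this
  have hg : lift g x ≫ a.act = σ ≫ x := by
    have e : lift g x = p := CartesianMonoidalCategory.hom_ext _ _ (by simp [g]) (by simp [hp2])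
    have := congrArg (fun t => t ≫ fst X X) hp
    rw [e]
    simpa using this
  obtain ⟨h, hh⟩ := exists_frob_twist K G g⁻¹
  refine exists_rational_of_frob_fixed K X (lift h⁻¹ x ≫ a.act) ?_
  have e : (σ ≫ h)⁻¹ * g = h⁻¹ := by conv_rhs => rw [← hh, _root_.mul_inv_rev, _root_.inv_inv]
  rw [← Category.assoc, comp_lift, GrpObj.comp_inv, ← hg, ← Groth.L25.Actions.mul_act, e]

theorem exists_rational_point (G : Over (Spec (CommRingCat.of k))) [GrpObj G] [IsAffine G.left] [Smooth G.hom]
    [ConnectedSpace G.left] (X : Over (Spec (CommRingCat.of k))) [LocallyOfFiniteType X.hom] [Nonempty ↥X.left]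
    (a : AlgGrp.Action G X) (hX : IsIso (lift a.act (snd G X))) :
    Nonempty (𝟙_ (Over (Spec (CommRingCat.of k))) ⟶ X) := by
  obtain ⟨x⟩ := exists_geomPoint (k := k) (AlgebraicClosure k) X
  exact exists_rational_point_of_geomPoint G X a hX x

end Groth.L24.Lang
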