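import Groth.Prelude.Def_AlgSt5
import Groth.Agent.L25.Actions
import Mathlib.Algebra.BigOperators.Finprod
import Mathlib.CategoryTheory.IsomorphismClasses

/-!
The fibre of a quotient stack over the terminal object: trivial torsors and the mass formula.
-/

set_option autoImplicit false
set_option backward.isDefEq.respectTransparency false
set_option backward.isDefEq.respectTransparency.types false

universe u

open CategoryTheory Limits MonoidalCategory CartesianMonoidalCategory MonObj GrpObj AlgebraicGeometry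

noncomputable section

namespace Groth.L24.Lang

variable {S : Scheme.{u}} {K : Precoverage Scheme.{u}} {G : Over S} [GrpObj G] {X : Over S}
  {aX : AlgGrp.Action G X}

local notation "O" => Over.mk (𝟙 S)

abbrev Fib (K : Precoverage Scheme.{u}) (G : Over S) [GrpObj G] (aX : AlgGrp.Action G X) : Type (u + 1) :=
  (AlgSt.QuotSt K G aX).p.Fiber (Over.mk (𝟙 S))

theorem subsingleton_to_base (ξ : Fib K G aX) (Y : Over S) : Subsingleton (Y ⟶ ξ.1.base) := by
  have h : ξ.1.base = 𝟙_ (Over S) := ξ.2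
  rw [h]
  infer_instance

/-- An equivariant map compatible with the maps to `X` gives a morphism of the fibre. -/
def fibHom {a b : Fib K G aX} (top : a.1.P ⟶ b.1.P) [IsIso top]
    (he : a.1.act.act ≫ top = (G ◁ top) ≫ b.1.act.act) (hφ : top ≫ b.1.φ = a.1.φ) : a ⟶ b :=
  ⟨{ base := eqToHom (a.2.trans b.2.symm)
     top := top
     eqv := he
     cart := IsPullback.of_horiz_isIso ⟨(subsingleton_to_base b _).elim _ _⟩
     wφ := hφ },
    IsHomLift.of_fac _ _ _ a.2 b.2 ((inferInstance : Subsingleton (O ⟶ 𝟙_ (Over S))).elim _ _)⟩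

theorem fibHom_ext {a b : Fib K G aX} {f g : a ⟶ b} (h : f.1.top = g.1.top) : f = g :=
  Subtype.ext (AlgSt.QuotObj.hom_ext ((subsingleton_to_base b _).elim _ _) h)

theorem isIso_top {a b : Fib K G aX} (f : a ⟶ b) : IsIso f.1.top := by
  haveI : IsIso f.1.base := by
    haveI := f.2
    have e : a.1.base = b.1.base := a.2.trans b.2.symm
    rw [(subsingleton_to_base b _).elim f.1.base (eqToHom e)]
    infer_instance
  exact f.1.cart.isIso_fst_of_isIso

theorem isIso_fibHom {a b : Fib K G aX} (f : a ⟶ b) : IsIso f := by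
  haveI := isIso_top f
  let g : b ⟶ a := fibHom (inv f.1.top)
    ((IsIso.comp_inv_eq _).2 ((Category.assoc _ _ _).trans (((congrArg (fun t => (G ◁ inv f.1.top) ≫ t) f.1.eqv)).trans
      ((MonoidalCategory.whiskerLeft_comp_assoc _ _ _ _).symm.trans
        (by rw [IsIso.inv_hom_id, MonoidalCategory.whiskerLeft_id, Category.id_comp])))).symm)
    (by rw [IsIso.inv_comp_eq, f.1.wφ])
  exact ⟨g, fibHom_ext (IsIso.hom_inv_id f.1.top), fibHom_ext (IsIso.inv_hom_id f.1.top)⟩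

variable [K.HasIsos]

/-- The trivial torsor at a section of `X`. -/
def triv (K : Precoverage Scheme.{u}) [K.HasIsos] (aX : AlgGrp.Action G X) (x : O ⟶ X) : Fib K G aX :=
  ⟨(AlgSt.quotMap K G aX).obj ⟨Over.mk (𝟙 S), ⟨x⟩⟩, rfl⟩

/-- The value at the unit section. -/
def evalOne {x : O ⟶ X} {ξ : Fib K G aX} (f : triv K aX x ⟶ ξ) : O ⟶ ξ.1.P :=
  lift (1 : O ⟶ G) (𝟙 _) ≫ f.1.top

theorem evalOne_φ {x : O ⟶ X} {ξ : Fib K G aX} (f : triv K aX x ⟶ ξ) : evalOne f ≫ ξ.1.φ = x := by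
  rw [evalOne, Category.assoc, f.1.wφ]
  show lift (1 : O ⟶ G) (𝟙 _) ≫ (G ◁ x) ≫ aX.act = x
  rw [lift_whiskerLeft_assoc, Category.id_comp, Groth.L25.Actions.one_act]

theorem top_eq {x : O ⟶ X} {ξ : Fib K G aX} (f : triv K aX x ⟶ ξ) :
    f.1.top = lift (fst G O) (snd G O ≫ evalOne f) ≫ ξ.1.act.act := by
  have h := congrArg (lift (fst G O) (snd G O ≫ lift (1 : O ⟶ G) (𝟙 _)) ≫ ·) f.1.eqv
  simp only [← Category.assoc, lift_whiskerLeft] at h
  have e : lift (fst G O) (snd G O ≫ lift (1 : O ⟶ G) (𝟙 _)) ≫ (AlgSt.leftMul G O).act = 𝟙 _ := by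
    apply CartesianMonoidalCategory.hom_ext
    · simp [AlgSt.leftMul, MonObj.comp_mul]
    · simp [AlgSt.leftMul]
  change (lift (fst G O) (snd G O ≫ lift (1 : O ⟶ G) (𝟙 _)) ≫ (AlgSt.leftMul G O).act) ≫ f.1.top = _ at h
  rw [e, Category.id_comp] at h
  rw [h]
  simp only [evalOne, Category.assoc]

theorem act_comp_act (ξ : Fib K G aX) (p : O ⟶ ξ.1.P) :
    (AlgSt.leftMul G O).act ≫ lift (fst G O) (snd G O ≫ p) ≫ ξ.1.act.act =
      (G ◁ (lift (fst G O) (snd G O ≫ p) ≫ ξ.1.act.act)) ≫ ξ.1.act.act := by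
  have e : G ◁ (lift (fst G O) (snd G O ≫ p) ≫ ξ.1.act.act) =
      lift (fst G (G ⊗ O)) (lift (snd G (G ⊗ O) ≫ fst G O) (snd G (G ⊗ O) ≫ snd G O ≫ p) ≫ ξ.1.act.act) := by
    apply CartesianMonoidalCategory.hom_ext
    · rw [whiskerLeft_fst, lift_fst]
    · rw [whiskerLeft_snd, lift_snd, ← Category.assoc, comp_lift]
  rw [e, ← Groth.L25.Actions.mul_act, ← Category.assoc, comp_lift]
  simp [AlgSt.leftMul]

theorem exists_hom_triv (ξ : Fib K G aX) (p : O ⟶ ξ.1.P) :
    ∃ f : triv K aX (p ≫ ξ.1.φ) ⟶ ξ, evalOne f = p := by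
  let top : G ⊗ O ⟶ ξ.1.P := lift (fst G O) (snd G O ≫ p) ≫ ξ.1.act.act
  haveI hsub := subsingleton_to_base ξ
  let c : ξ.1.P ⟶ G ⊗ ξ.1.P :=
    ξ.1.cart.lift (𝟙 _) (toUnit ξ.1.P ≫ p) ((hsub ξ.1.P).elim _ _)
  have hc : c ≫ ξ.1.act.act = 𝟙 _ := ξ.1.cart.lift_fst _ _ _
  have hc' : c ≫ snd G ξ.1.P = toUnit ξ.1.P ≫ p := ξ.1.cart.lift_snd _ _ _
  haveI : IsIso top := by
    refine ⟨lift (c ≫ fst G ξ.1.P) (toUnit ξ.1.P), ?_, ?_⟩
    · have e : top ≫ c = lift (fst G O) (snd G O ≫ p) := ξ.1.cart.hom_ext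
        (by rw [Category.assoc, hc, Category.comp_id])
        (by rw [Category.assoc, hc', lift_snd, ← Category.assoc]
            exact congrArg (· ≫ p) (toUnit_unique _ _))
      apply CartesianMonoidalCategory.hom_ext
      · rw [Category.assoc, lift_fst, ← Category.assoc, e, lift_fst, Category.id_comp]
      · exact toUnit_unique (C := Over S) _ _
    · have e : lift (c ≫ fst G ξ.1.P) (toUnit ξ.1.P ≫ p) = c := by
        rw [← hc', ← comp_lift, lift_fst_snd, Category.comp_id]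
      show lift _ _ ≫ lift (fst G O) (snd G O ≫ p) ≫ ξ.1.act.act = 𝟙 _
      rw [← Category.assoc, comp_lift, lift_fst, lift_snd_assoc, e, hc]
  refine ⟨@fibHom _ _ _ _ _ _ (triv K aX (p ≫ ξ.1.φ)) ξ top ‹_› (act_comp_act ξ p) ?_, ?_⟩
  · show (lift (fst G O) (snd G O ≫ p) ≫ ξ.1.act.act) ≫ ξ.1.φ = (G ◁ (p ≫ ξ.1.φ)) ≫ aX.act
    rw [Category.assoc, ξ.1.eqv, ← Category.assoc, lift_whiskerLeft]
    congr 1
  · show lift (1 : O ⟶ G) (𝟙 _) ≫ lift (fst G O) (snd G O ≫ p) ≫ ξ.1.act.act = p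
    rw [← Category.assoc, comp_lift, lift_fst, lift_snd_assoc, Category.id_comp, Groth.L25.Actions.one_act]

theorem nat_card_points (ξ : Fib K G aX) (p : O ⟶ ξ.1.P) : Nonempty ((O ⟶ G) ≃ (O ⟶ ξ.1.P)) := by
  haveI hsub := subsingleton_to_base ξ
  refine ⟨Equiv.ofBijective (fun g => lift g p ≫ ξ.1.act.act) ⟨fun g g' h => ?_, fun q => ?_⟩⟩
  · have := ξ.1.cart.hom_ext (k := lift g p) (l := lift g' p) h (by simp)
    simpa using congrArg (fun t => t ≫ fst G ξ.1.P) this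
  · let r := ξ.1.cart.lift q p ((hsub _).elim _ _)
    refine ⟨r ≫ fst G ξ.1.P, ?_⟩
    show lift (r ≫ fst G ξ.1.P) p ≫ ξ.1.act.act = q
    rw [show lift (r ≫ fst G ξ.1.P) p = r from by
      conv_lhs => arg 2; rw [← ξ.1.cart.lift_snd q p ((hsub _).elim _ _)]
      rw [← comp_lift, lift_fst_snd, Category.comp_id]]
    exact ξ.1.cart.lift_fst _ _ _

set_option maxHeartbeats 800000 in
/-- The mass formula, when all torsors in the fibre are trivial. -/
theorem mass_formula [Finite (O ⟶ X)] [Finite (O ⟶ G)] (hpt : ∀ ξ : Fib K G aX, Nonempty (O ⟶ ξ.1.P)) :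
    Finite (Quotient (isIsomorphicSetoid (Fib K G aX))) ∧ (∀ ξ : Fib K G aX, Finite (Aut ξ)) ∧
      ∑ᶠ c : Quotient (isIsomorphicSetoid (Fib K G aX)), ((Nat.card (Aut c.out) : ℚ))⁻¹ =
        (Nat.card (O ⟶ X) : ℚ) / (Nat.card (O ⟶ G) : ℚ) := by
  classical
  let π : (O ⟶ X) → Quotient (isIsomorphicSetoid (Fib K G aX)) := fun x => Quotient.mk _ (triv K aX x)
  have hπ : Function.Surjective π := Quotient.ind fun ξ => by
    obtain ⟨p⟩ := hpt ξ
    obtain ⟨f, -⟩ := exists_hom_triv ξ p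
    haveI := isIso_fibHom f
    exact ⟨p ≫ ξ.1.φ, Quotient.sound ⟨asIso f⟩⟩
  haveI : Finite (Quotient (isIsomorphicSetoid (Fib K G aX))) := Finite.of_surjective π hπ
  have haut : ∀ ξ : Fib K G aX, Finite (Aut ξ) := fun ξ => by
    obtain ⟨p⟩ := hpt ξ
    obtain ⟨f, -⟩ := exists_hom_triv ξ p
    haveI := isIso_fibHom f
    obtain ⟨eP⟩ := nat_card_points ξ p
    haveI : Finite (O ⟶ ξ.1.P) := Finite.of_equiv _ eP
    refine Finite.of_injective (β := O ⟶ ξ.1.P) (fun e => evalOne (f ≫ e.hom)) fun e e' h => Iso.ext ?_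
    have h1 : f ≫ e.hom = f ≫ e'.hom := fibHom_ext (by rw [top_eq, top_eq, show evalOne (f ≫ e.hom) = _ from h])
    exact (cancel_epi f).1 h1
  refine ⟨inferInstance, haut, ?_⟩
  haveI := haut
  have key : ∀ c : Quotient (isIsomorphicSetoid (Fib K G aX)),
      Nat.card {x // π x = c} * Nat.card (Aut c.out) = Nat.card (O ⟶ G) := by
    intro c
    let ξ := c.out
    obtain ⟨p₀⟩ := hpt ξ
    obtain ⟨eP⟩ := nat_card_points ξ p₀
    have hξ : Quotient.mk _ ξ = c := c.out_eq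
    have hne : ∀ x : {x // π x = c}, Nonempty (triv K aX x.1 ≅ ξ) := fun x =>
      Quotient.exact (s := isIsomorphicSetoid _) (x.2.trans hξ.symm)
    let i := fun x => (hne x).some
    let Φ : {x // π x = c} × Aut ξ → (O ⟶ ξ.1.P) := fun z => evalOne ((i z.1).hom ≫ z.2.hom)
    have hΦ : Function.Bijective Φ := by
      constructor
      · rintro ⟨x, a⟩ ⟨x', a'⟩ h
        change evalOne ((i x).hom ≫ a.hom) = evalOne ((i x').hom ≫ a'.hom) at h
        obtain rfl : x = x' := Subtype.ext (by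
          rw [← evalOne_φ ((i x).hom ≫ a.hom), h, evalOne_φ])
        have h1 : (i x).hom ≫ a.hom = (i x).hom ≫ a'.hom := fibHom_ext (by rw [top_eq, top_eq, h])
        rw [show a = a' from Iso.ext ((cancel_epi (i x).hom).1 h1)]
      · intro p
        obtain ⟨f, hf⟩ := exists_hom_triv ξ p
        haveI := isIso_fibHom f
        let x : {x // π x = c} := ⟨p ≫ ξ.1.φ, (Quotient.sound (s := isIsomorphicSetoid _) ⟨asIso f⟩).trans hξ⟩
        refine ⟨(x, ((i x).symm ≪≫ asIso f : ξ ≅ ξ)), ?_⟩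
        simp only [Φ, Iso.trans_hom, Iso.symm_hom, asIso_hom, Iso.hom_inv_id_assoc]
        exact hf
    rw [← Nat.card_prod, Nat.card_congr (Equiv.ofBijective Φ hΦ), Nat.card_congr eP]
  haveI := Fintype.ofFinite (Quotient (isIsomorphicSetoid (Fib K G aX)))
  rw [finsum_eq_sum_of_fintype, eq_div_iff (Nat.cast_ne_zero.2 Nat.card_pos.ne'), Finset.sum_mul,
    ← Nat.card_congr (Equiv.sigmaFiberEquiv π), Nat.card_sigma, Nat.cast_sum]
  refine Finset.sum_congr rfl fun c _ => ?_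
  rw [← key c, Nat.cast_mul, mul_comm (Nat.card {x // π x = c} : ℚ), inv_mul_cancel_left₀]
  exact Nat.cast_ne_zero.2 Nat.card_pos.ne'

end Groth.L24.Lang
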