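import Groth.Agent.L24.Lang.Torsor
import Groth.Agent.L24.Lang.QuotPts

/-!
Rational points over finite fields: finiteness, and torsors in the fibre of a quotient stack.
-/

set_option autoImplicit false
set_option backward.isDefEq.respectTransparency false
set_option backward.isDefEq.respectTransparency.types false

universe u

open CategoryTheory Limits MonoidalCategory CartesianMonoidalCategory MonObj GrpObj AlgebraicGeometry

noncomputable section

namespace Groth.L24.Lang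

variable (F : Type u) [Field F] [Finite F]

theorem finite_rational_points (Y : Over (Spec (CommRingCat.of F))) [LocallyOfFiniteType Y.hom]
    [QuasiCompact Y.hom] : Finite (Over.mk (𝟙 (Spec (CommRingCat.of F))) ⟶ Y) := by
  classical
  haveI : CompactSpace ↥Y.left := QuasiCompact.compactSpace_of_compactSpace Y.hom
  let 𝒰 := Y.left.affineCover.finiteSubcover
  let P : 𝒰.I₀ → Type u := fun i => {q : Spec (CommRingCat.of F) ⟶ 𝒰.X i // q ≫ 𝒰.f i ≫ Y.hom = 𝟙 _}
  haveI : ∀ i, Finite (P i) := fun i => by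
    haveI : IsAffine (𝒰.X i) := inferInstance
    have hft : (((Scheme.ΓSpecIso (CommRingCat.of F)).inv ≫ (𝒰.f i ≫ Y.hom).appTop).hom).FiniteType := by
      have h : LocallyOfFiniteType (𝒰.f i ≫ Y.hom) := inferInstance
      rw [HasRingHomProperty.iff_of_isAffine (P := @LocallyOfFiniteType)] at h
      exact RingHom.finiteType_respectsIso.2 _ (Scheme.ΓSpecIso (CommRingCat.of F)).symm.commRingCatIsoToRingEquiv h
    let φ := (Scheme.ΓSpecIso (CommRingCat.of F)).inv ≫ (𝒰.f i ≫ Y.hom).appTop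
    letI := φ.hom.toAlgebra
    haveI : Algebra.FiniteType F Γ(𝒰.X i, ⊤) := hft
    obtain ⟨s, hs⟩ := (‹Algebra.FiniteType F Γ(𝒰.X i, ⊤)›).out
    have hq : ∀ q : P i, φ ≫ q.1.appTop ≫ (Scheme.ΓSpecIso (CommRingCat.of F)).hom = 𝟙 _ := fun q => by
      show ((Scheme.ΓSpecIso (CommRingCat.of F)).inv ≫ (𝒰.f i ≫ Y.hom).appTop) ≫ _ = _
      rw [Category.assoc, ← Scheme.Hom.comp_appTop_assoc, q.2, Scheme.Hom.id_appTop, Category.id_comp,
        Iso.inv_hom_id]
    let ev : P i → (Γ(𝒰.X i, ⊤) →ₐ[F] F) := fun q =>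
      { (q.1.appTop ≫ (Scheme.ΓSpecIso (CommRingCat.of F)).hom).hom with
        commutes' := fun r => congrArg (fun T : CommRingCat.of F ⟶ CommRingCat.of F => T.hom r) (hq q) }
    haveI : Finite (Γ(𝒰.X i, ⊤) →ₐ[F] F) :=
      Finite.of_injective (fun a (x : s) => a x.1) fun a b h =>
        AlgHom.ext_of_adjoin_eq_top hs fun x hx => congrFun h ⟨x, hx⟩
    refine Finite.of_injective ev fun q q' h => Subtype.ext ?_
    refine (ext_of_isAffine ((cancel_mono (Scheme.ΓSpecIso (CommRingCat.of F)).hom).1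
      (CommRingCat.hom_ext (congrArg AlgHom.toRingHom h))))
  let inc : (Σ i, P i) → (Over.mk (𝟙 (Spec (CommRingCat.of F))) ⟶ Y) := fun z =>
    Over.homMk (z.2.1 ≫ 𝒰.f z.1) ((Category.assoc _ _ _).trans z.2.2)
  refine Finite.of_surjective inc fun p => ?_
  let p' : Spec (CommRingCat.of F) ⟶ Y.left := p.left
  let i := 𝒰.idx (p' (IsLocalRing.closedPoint F))
  have hr : Set.range p' ⊆ Set.range (𝒰.f i) := by
    rintro _ ⟨z, rfl⟩
    rw [show z = IsLocalRing.closedPoint F from Subsingleton.elim (α := PrimeSpectrum F) _ _]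
    exact 𝒰.covers _
  refine ⟨⟨i, IsOpenImmersion.lift (𝒰.f i) p' hr, ?_⟩, Over.OverMorphism.ext (IsOpenImmersion.lift_fac _ _ _)⟩
  rw [IsOpenImmersion.lift_fac_assoc]
  exact Over.w p

variable {F}

theorem exists_point_of_fib (G : Over (Spec (CommRingCat.of F))) [GrpObj G] [IsAffine G.left] [Smooth G.hom]
    [ConnectedSpace G.left] {X : Over (Spec (CommRingCat.of F))} (aX : AlgGrp.Action G X)
    (ξ : Fib Scheme.fppfPrecoverage G aX) : Nonempty (Over.mk (𝟙 (Spec (CommRingCat.of F))) ⟶ ξ.1.P) := by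
  obtain ⟨R, hR, hsec⟩ := ξ.1.loc
  obtain ⟨𝒰, rfl⟩ := R.exists_eq_preZeroHypercover
  obtain ⟨hs, hP⟩ := (Scheme.ofArrows_mem_precoverage_iff _).1 hR
  haveI : IsIso ξ.1.base.hom := by
    have e : ξ.1.base = Over.mk (𝟙 (Spec (CommRingCat.of F))) := ξ.2
    rw [e]
    exact inferInstanceAs (IsIso (𝟙 _))
  obtain ⟨z⟩ : Nonempty ↥ξ.1.base.left := ⟨(inv ξ.1.base.hom) (IsLocalRing.closedPoint F)⟩
  obtain ⟨i, u, -⟩ := hs z
  obtain ⟨t, ht⟩ := hsec (𝒰.f i) ⟨i⟩
  have hfi : Flat (𝒰.f i) ∧ LocallyOfFinitePresentation (𝒰.f i) := hP i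
  haveI := hfi.2
  let U : Over (Spec (CommRingCat.of F)) := Over.mk (𝒰.f i ≫ ξ.1.base.hom)
  haveI : Nonempty ↥U.left := ⟨u⟩
  haveI : LocallyOfFiniteType U.hom := inferInstanceAs (LocallyOfFiniteType (𝒰.f i ≫ ξ.1.base.hom))
  obtain ⟨x⟩ := exists_geomPoint (k := F) (AlgebraicClosure F) U
  let t' : U ⟶ ξ.1.P := Over.homMk t (by
    show t ≫ ξ.1.P.hom = 𝒰.f i ≫ ξ.1.base.hom
    rw [← Over.w ξ.1.π, ← Category.assoc]
    exact congrArg (· ≫ ξ.1.base.hom) ht)
  haveI hsub := subsingleton_to_base ξ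
  have hiso : IsIso (lift ξ.1.act.act (snd G ξ.1.P)) := by
    let j := ξ.1.cart.lift (fst ξ.1.P ξ.1.P) (snd ξ.1.P ξ.1.P) ((hsub _).elim _ _)
    refine ⟨j, ?_, ?_⟩
    · refine ξ.1.cart.hom_ext ?_ ?_ <;> simp [j]
    · apply CartesianMonoidalCategory.hom_ext <;> simp [j]
  exact exists_rational_point_of_geomPoint G ξ.1.P ξ.1.act hiso (x ≫ t')

end Groth.L24.Lang
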