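import Groth.Agent.L08.InvFinite
import Groth.Agent.L22.AffineDim
import Mathlib.RingTheory.HopfAlgebra.Convolution
import Mathlib.RingTheory.FiniteType
import Mathlib.RingTheory.KrullDimension.Field
import Mathlib.RingTheory.KrullDimension.NonZeroDivisors
import Mathlib.RingTheory.KrullDimension.Polynomial
import Mathlib.RingTheory.Spectrum.Prime.Topology

/-!
The Lang map of a connected affine group is finite and surjective, on coordinate rings:
if `l * f = id` in the convolution group and `f` is the `q`-th power map, then the coordinate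
ring is finite over the image of `l`.
-/

set_option autoImplicit false

universe u

open TensorProduct WithConv

namespace Groth.L24.Lang

variable {k A : Type u} [Field k] [CommRing A]

/-- Monomials with small exponents span, if every `q`-th power of a generator is a combination of generators. -/
theorem finite_of_pow_mem [Algebra k A] (T : Subalgebra k A) {q : ℕ} (hq : 2 ≤ q) (s : Finset A)
    (hs : Algebra.adjoin k (s : Set A) = ⊤) (hpow : ∀ c ∈ s, c ^ q ∈ Submodule.span T (s : Set A)) :
    Module.Finite T A := by
  classical
  let E : Set A := Multiset.prod '' {m : Multiset A | m ≤ q • s.1}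
  have hE : E.Finite :=
    ((q • s.1).powerset.toFinset.finite_toSet.subset fun m (hm : m ≤ q • s.1) => by
      simpa using hm).image Multiset.prod
  let M : Submodule T A := Submodule.span T E
  have key : ∀ (n : ℕ) (m : Multiset A), Multiset.card m = n → (∀ x ∈ m, x ∈ s) → m.prod ∈ M := by
    intro n
    induction n using Nat.strong_induction_on with
    | _ n ih =>
      intro m hn hm
      by_cases hle : m ≤ q • s.1
      · exact Submodule.subset_span ⟨m, hle, rfl⟩
      obtain ⟨c, hc⟩ : ∃ c, q * s.1.count c < m.count c := by
        simpa [Multiset.le_iff_count] using hle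
      have hcm : c ∈ m := Multiset.count_pos.1 (lt_of_le_of_lt (Nat.zero_le _) hc)
      rw [Multiset.count_eq_one_of_mem s.nodup (hm c hcm), mul_one] at hc
      obtain ⟨m', rfl⟩ := Multiset.le_iff_exists_add.1 (Multiset.le_count_iff_replicate_le.1 hc.le)
      rw [Multiset.prod_add, Multiset.prod_replicate]
      have h1 : Submodule.span T (s : Set A) ≤ M.comap (LinearMap.mulRight T m'.prod) := by
        refine Submodule.span_le.2 fun x hx => ?_
        show x * m'.prod ∈ M
        rw [← Multiset.prod_cons]
        refine ih (Multiset.card (x ::ₘ m')) ?_ _ rfl fun y hy => ?_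
        · rw [← hn, Multiset.card_cons, Multiset.card_add, Multiset.card_replicate]
          omega
        · rcases Multiset.mem_cons.1 hy with rfl | hy
          · exact hx
          · exact hm y (Multiset.mem_add.2 (Or.inr hy))
      exact h1 (hpow c (hm c hcm))
  refine ⟨⟨hE.toFinset, ?_⟩⟩
  rw [hE.coe_toFinset, eq_top_iff]
  intro a _
  have ha : a ∈ Submodule.span k (Submonoid.closure (s : Set A) : Set A) := by
    rw [← Algebra.adjoin_eq_span, hs]; trivial
  refine Submodule.span_induction ?_ (zero_mem _) (fun _ _ _ _ => add_mem) ?_ ha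
  · intro x hx
    obtain ⟨l, hl, rfl⟩ := Submonoid.exists_multiset_of_mem_closure hx
    exact key _ l rfl hl
  · intro r x _ hx
    rw [show r • x = (algebraMap k T r) • x from (algebraMap_smul T r x).symm]
    exact M.smul_mem _ hx

/-- An endomorphism of an affine domain of finite type over a field, finite over its image, is injective. -/
theorem injective_of_finite_range [Algebra k A] [IsDomain A] [Algebra.FiniteType k A] (φ : A →ₐ[k] A)
    [Module.Finite φ.range A] : Function.Injective φ := by
  refine (injective_iff_map_eq_zero φ).2 fun r hr => by_contra fun hr0 => ?_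
  let ψ : A →+* φ.range := φ.rangeRestrict.toRingHom
  have h1 : ringKrullDim φ.range + 1 ≤ ringKrullDim A :=
    ringKrullDim_succ_le_of_surjective ψ φ.rangeRestrict_surjective
      (mem_nonZeroDivisors_of_ne_zero hr0) (Subtype.ext hr)
  have h2 : ringKrullDim A = ringKrullDim φ.range :=
    Groth.L22.AffineDim.ringKrullDim_eq_of_isIntegral Subtype.val_injective
  rw [← h2] at h1
  have h3 : ringKrullDim A < ⊤ := by
    obtain ⟨n, f, hf⟩ := Algebra.FiniteType.iff_quotient_mvPolynomial''.1 ‹Algebra.FiniteType k A›
    refine (ringKrullDim_le_of_surjective f.toRingHom hf).trans_lt ?_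
    rw [MvPolynomial.ringKrullDim_of_isNoetherianRing, ringKrullDim_eq_zero_of_field, zero_add]
    exact WithBot.coe_lt_coe.2 (ENat.coe_lt_top _)
  have h4 : 0 ≤ ringKrullDim A := ringKrullDim_nonneg_of_nontrivial
  generalize ringKrullDim A = d at h1 h3 h4
  induction d with
  | bot => simp at h4
  | coe d =>
    induction d with
    | top => exact absurd h3 (lt_irrefl _)
    | coe m =>
      have : ((m + 1 : ℕ) : WithBot ℕ∞) ≤ (m : WithBot ℕ∞) := by push_cast; exact_mod_cast h1
      have : m + 1 ≤ m := by exact_mod_cast this
      omega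

variable [HopfAlgebra k A] [Algebra.FiniteType k A]

/-- The coordinate ring is finite over the image of the Lang map. -/
theorem finite_range_lang {q : ℕ} (hq : 2 ≤ q) (f l : WithConv (A →ₐ[k] A)) (hf : ∀ a, f.ofConv a = a ^ q)
    (hl : l * f = toConv (AlgHom.id k A)) : Module.Finite l.ofConv.range A := by
  classical
  obtain ⟨s, hs, hW⟩ := L08.exists_finset_adjoin_isSubcomod (k := k) (A := A) (R := A)
  let σ : A →ₐ[k] A := HopfAlgebra.antipodeAlgHom k A
  have hσ : ∀ a, σ (σ a) = a := fun a =>
    AlgHom.congr_fun (congrArg ofConv (inv_inv (toConv (AlgHom.id k A) : WithConv (A →ₐ[k] A)))) a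
  refine finite_of_pow_mem l.ofConv.range hq (s.image σ) ?_ fun c hc => ?_
  · rw [Finset.coe_image, ← AlgHom.map_adjoin, hs, Algebra.map_top, AlgHom.range_eq_top]
    exact fun a => ⟨σ a, hσ a⟩
  obtain ⟨w, hw, rfl⟩ := Finset.mem_image.1 hc
  have e : f⁻¹ = (toConv (AlgHom.id k A) : WithConv (A →ₐ[k] A))⁻¹ * l := by
    rw [← hl, mul_inv_rev, inv_mul_cancel_right]
  have e1 : (σ w) ^ q = (f⁻¹).ofConv w := (hf (σ w)).symm
  rw [e1, e, AlgHom.convMul_apply]
  obtain ⟨t, ht⟩ := hW w (Submodule.subset_span hw)
  rw [show Coalgebra.comul (R := k) w = _ from ht.symm]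
  clear ht e1 hc
  induction t using TensorProduct.induction_on with
  | zero => simp
  | add a b ha hb => simp only [map_add]; exact add_mem ha hb
  | tmul x y =>
    simp only [LinearMap.rTensor_tmul]
    have hx : σ (x : A) ∈ Submodule.span k ((s.image σ : Finset A) : Set A) := by
      rw [Finset.coe_image, ← AlgHom.coe_toLinearMap, ← Submodule.map_span]
      exact Submodule.mem_map_of_mem x.2
    have hx' : σ (x : A) ∈ Submodule.span l.ofConv.range ((s.image σ : Finset A) : Set A) :=
      Submodule.span_le_restrictScalars k l.ofConv.range _ hx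
    have := Submodule.smul_mem _ (⟨l.ofConv y, ⟨y, rfl⟩⟩ : l.ofConv.range) hx'
    rw [Subalgebra.smul_def, smul_eq_mul, mul_comm] at this
    rw [Algebra.TensorProduct.lift_tmul]
    exact this

/-- The Lang map is surjective. -/
theorem surjective_comap_lang [IsDomain A] {q : ℕ} (hq : 2 ≤ q) (f l : WithConv (A →ₐ[k] A))
    (hf : ∀ a, f.ofConv a = a ^ q) (hl : l * f = toConv (AlgHom.id k A)) :
    Function.Surjective (PrimeSpectrum.comap l.ofConv.toRingHom) := by
  haveI := finite_range_lang hq f l hf hl
  have hinj := injective_of_finite_range l.ofConv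
  have hint : l.ofConv.toRingHom.IsIntegral := fun a => by
    obtain ⟨p, hp, hpa⟩ := Algebra.IsIntegral.isIntegral (R := l.ofConv.range) a
    have hs : Function.Surjective l.ofConv.rangeRestrict.toRingHom := l.ofConv.rangeRestrict_surjective
    obtain ⟨p', hp', -, hp''⟩ := Polynomial.lifts_and_degree_eq_and_monic
      (Polynomial.map_surjective _ hs p) hp
    refine ⟨p', hp'', ?_⟩
    rw [← hp', Polynomial.eval₂_map] at hpa
    exact hpa
  exact hint.comap_surjective hinj

end Groth.L24.Lang
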