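import Groth.Agent.L24.Lang.Alg
import Mathlib.RingTheory.Ideal.GoingUp
import Mathlib.FieldTheory.IsAlgClosed.Basic
import Mathlib.FieldTheory.Finite.Basic
import Mathlib.RingTheory.Bialgebra.Convolution

/-!
Lang's theorem on points with values in an algebraically closed field.
-/

set_option autoImplicit false

universe u

open TensorProduct WithConv

namespace Groth.L24.Lang

variable {k A : Type u} [Field k] [CommRing A]

set_option synthInstance.maxHeartbeats 200000 in
/-- A point of an integral extension lifts every point with values in an algebraically closed field. -/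
theorem exists_algHom_extend [Algebra k A] (T : Subalgebra k A) [Algebra.IsIntegral T A] {K : Type u} [Field K]
    [IsAlgClosed K] [Algebra k K] (ρ : T →ₐ[k] K) : ∃ h : A →ₐ[k] K, ∀ t : T, h t = ρ t := by
  let P : Ideal T := RingHom.ker ρ.toRingHom
  haveI : P.IsPrime := RingHom.ker_isPrime _
  obtain ⟨Q, -, hQ, hQP⟩ := Ideal.exists_ideal_over_prime_of_isIntegral P (⊥ : Ideal A)
    (by intro t ht
        rw [Ideal.mem_comap, Ideal.mem_bot] at ht
        have : t = 0 := Subtype.val_injective ht
        rw [this]; exact zero_mem _)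
  haveI : Q.LiesOver P := ⟨hQP.symm⟩
  letI : Algebra (T ⧸ P) K := (Ideal.Quotient.lift P ρ.toRingHom fun a ha => ha).toAlgebra
  haveI : FaithfulSMul (T ⧸ P) K := (faithfulSMul_iff_algebraMap_injective _ _).2
    (RingHom.lift_injective_of_ker_le_ideal P (f := ρ.toRingHom) (fun a ha => ha) le_rfl)
  haveI : Q.IsPrime := hQ
  have hTPQ : Function.Injective (algebraMap (T ⧸ P) (A ⧸ Q)) := by
    refine (injective_iff_map_eq_zero _).2 fun x hx => ?_
    obtain ⟨t, rfl⟩ := Ideal.Quotient.mk_surjective x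
    have hx' : Ideal.Quotient.mk Q (t : A) = 0 := hx
    exact Ideal.Quotient.eq_zero_iff_mem.2 (hQP.le (show (t : A) ∈ Q from Ideal.Quotient.eq_zero_iff_mem.1 hx'))
  haveI : Module.IsTorsionFree (T ⧸ P) (A ⧸ Q) := Module.isTorsionFree_iff_algebraMap_injective.2 hTPQ
  haveI : Module.IsTorsionFree (T ⧸ P) K := Module.isTorsionFree_iff_algebraMap_injective.2
    ((faithfulSMul_iff_algebraMap_injective _ _).1 inferInstance)
  haveI : Algebra.IsIntegral (T ⧸ P) (A ⧸ Q) := inferInstance
  haveI : Nontrivial (T ⧸ P) := Ideal.Quotient.nontrivial_iff.2 ‹P.IsPrime›.ne_top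
  haveI : Algebra.IsAlgebraic (T ⧸ P) (A ⧸ Q) := Algebra.IsIntegral.isAlgebraic
  let τ₀ : A ⧸ Q →ₐ[T ⧸ P] K := IsAlgClosed.lift (R := T ⧸ P) (S := A ⧸ Q) (M := K)
  have key : ∀ t : T, τ₀ (Ideal.Quotient.mk Q (t : A)) = ρ t := fun t => τ₀.commutes (Ideal.Quotient.mk P t)
  refine ⟨{ τ₀.toRingHom.comp (Ideal.Quotient.mk Q) with commutes' := fun r => ?_ }, key⟩
  exact (key (algebraMap k T r)).trans (ρ.commutes r)

variable [HopfAlgebra k A] [Algebra.FiniteType k A] [Finite k]

/-- Every point is `h * σ(h)⁻¹`. -/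
theorem exists_lang_point [IsDomain A] {K : Type u} [Field K] [IsAlgClosed K] [Algebra k K]
    (χ : WithConv (A →ₐ[k] K)) :
    ∃ h : WithConv (A →ₐ[k] K), ∀ h' : WithConv (A →ₐ[k] K),
      (∀ a, h'.ofConv a = h.ofConv a ^ Nat.card k) → χ * h' = h := by
  classical
  letI := Fintype.ofFinite k
  let f : WithConv (A →ₐ[k] A) := toConv (FiniteField.frobeniusAlgHom k A)
  let l : WithConv (A →ₐ[k] A) := toConv (AlgHom.id k A) * f⁻¹
  have hf : ∀ a, f.ofConv a = a ^ Nat.card k := fun a => by rw [Nat.card_eq_fintype_card]; rfl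
  have hl : l * f = toConv (AlgHom.id k A) := inv_mul_cancel_right _ _
  haveI := finite_range_lang Finite.one_lt_card f l hf hl
  let e := AlgEquiv.ofInjective l.ofConv (injective_of_finite_range l.ofConv)
  obtain ⟨h, hh⟩ := exists_algHom_extend l.ofConv.range (χ.ofConv.comp e.symm.toAlgHom)
  refine ⟨toConv h, fun h' hh' => ?_⟩
  have e1 : h' = toConv (h.comp f.ofConv) :=
    ofConv_injective (AlgHom.ext fun a => (hh' a).trans ((map_pow h a _).symm.trans (congrArg h (hf a).symm)))
  have e2 : χ = toConv (h.comp l.ofConv) := ofConv_injective (AlgHom.ext fun a => by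
    have e3 := hh (e a)
    simp only [AlgHom.comp_apply, AlgEquiv.toAlgHom_apply, AlgEquiv.symm_apply_apply] at e3
    exact e3.symm)
  rw [e1, e2]
  exact ofConv_injective ((AlgHom.comp_convMul_distrib h l f).symm.trans
    (by rw [hl]; exact AlgHom.comp_id h))

end Groth.L24.Lang
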